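import Groth.Agent.WQ7.Free
import Mathlib.RingTheory.Smooth.Fiber
import Mathlib.RingTheory.Etale.Locus
import Mathlib

/-!
A finite group action with a delta function is étale after inverting the multiplier.
-/

namespace Groth.Agent.H1Wild

open Groth.Agent.WQ7

universe u w

variable {R : Type u} [CommRing R] {A : Type u} [CommRing A] [Algebra R A]
  {G : Type w} [Group G] [Finite G] [MulSemiringAction G A] [SMulCommClass G R A]

/-- The multiplier squared kills every derivation over the invariants. -/
theorem sq_smul_derivation [Fintype G] [DecidableEq G] [Algebra.IsInvariant R A G] {r : R}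
    (hδ : Pi.single (1 : G) (algebraMap R A r) ∈ orbitSpan (H := G) (⊤ : Subalgebra R A))
    {M : Type*} [AddCommGroup M] [Module A M] [Module R M] [IsScalarTower R A M]
    (D : Derivation R A M) (a : A) : algebraMap R A r • algebraMap R A r • D a = 0 := by
  obtain ⟨l, x, f, hsum⟩ := Submodule.mem_span_set'.mp hδ
  have hf := fun k => (f k).2
  choose y hy using hf
  have hval : ∀ g : G, ∑ k, x k * (g • (y k : A)) = if g = 1 then algebraMap R A r else 0 := fun g => by
    have := congrFun hsum g
    simp only [Finset.sum_apply, Pi.smul_apply, smul_eq_mul, Pi.single_apply] at this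
    rw [← this]
    exact Finset.sum_congr rfl fun k _ => by rw [← hy k]
  set ρ := algebraMap R A r with hρ
  -- the trace reproduction formula
  have h1 : ∀ a : A, ρ * a = ∑ k, (∑ g : G, g • (a * x k)) * (y k : A) := fun a => by
    simp only [Finset.sum_mul]
    rw [Finset.sum_comm]
    calc ρ * a = ∑ g : G, (g • a) * (g • ∑ k, x k * (g⁻¹ • (y k : A))) := by
          rw [Finset.sum_eq_single (1 : G) (fun g _ hg => by
            rw [hval, if_neg (by simpa using hg), smul_zero, mul_zero])
            (fun h => absurd (Finset.mem_univ _) h)]
          rw [hval, if_pos inv_one, one_smul, one_smul, mul_comm]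
      _ = _ := Finset.sum_congr rfl fun g _ => by
          simp [Finset.smul_sum, Finset.mul_sum, smul_mul', mul_assoc]
  have hT : ∀ z : A, D (∑ g : G, g • z) = 0 := fun z => by
    obtain ⟨t, ht⟩ := Algebra.IsInvariant.isInvariant (A := R) (G := G) (∑ g : G, g • z) fun h => by
      rw [Finset.smul_sum]
      exact Fintype.sum_equiv (Equiv.mulLeft h) _ _ fun g => (mul_smul h g _).symm
    rw [← ht, D.map_algebraMap]
  let m : G → M := fun g => ∑ k, (g • x k) • D (y k : A)
  have h2 : ∀ a : A, ρ • D a = ∑ g : G, (g • a) • m g := fun a => by
    have := congrArg D (h1 a)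
    simp only [map_sum, D.leibniz, hT, smul_zero, add_zero] at this
    rw [hρ, D.map_algebraMap, smul_zero, add_zero] at this
    rw [this]
    simp only [m, Finset.sum_smul, Finset.smul_sum, smul_smul, smul_mul']
    exact Finset.sum_comm
  have h3 : ∀ b : A, ∑ g : G, ((g • a) * (g • b) - a * (g • b) - b * (g • a)) • m g = 0 := fun b => by
    have e : ∑ g : G, ((g • a) * (g • b)) • m g = ρ • D (a * b) := by
      rw [h2]; exact Finset.sum_congr rfl fun g _ => by rw [smul_mul']
    simp only [sub_smul, Finset.sum_sub_distrib]
    rw [e, D.leibniz]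
    simp only [mul_smul, ← Finset.smul_sum, ← h2]
    rw [smul_add, smul_comm ρ a, smul_comm ρ b]
    abel
  have h4 : ∑ g : G, (∑ j, x j * ((g • a) * (g • (y j : A)) - a * (g • (y j : A)) - (y j : A) * (g • a))) •
      m g = 0 := by
    simp only [Finset.sum_smul]
    rw [Finset.sum_comm]
    refine Finset.sum_eq_zero fun j _ => ?_
    simp only [mul_smul, ← Finset.smul_sum, h3, smul_zero]
  have h5 : ∀ g : G, ∑ j, x j * ((g • a) * (g • (y j : A)) - a * (g • (y j : A)) - (y j : A) * (g • a)) =
      (g • a - a) * (if g = 1 then ρ else 0) - (g • a) * ρ := fun g => by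
    rw [← hval g]
    conv_rhs => arg 2; arg 2; rw [show ρ = ∑ k, x k * ((1 : G) • (y k : A)) by rw [hval, if_pos rfl]]
    simp only [Finset.mul_sum, ← Finset.sum_sub_distrib, one_smul]
    exact Finset.sum_congr rfl fun j _ => by ring
  simp only [h5, sub_smul, Finset.sum_sub_distrib] at h4
  rw [Finset.sum_eq_single (1 : G) (fun g _ hg => by rw [if_neg hg, mul_zero, zero_smul])
    (fun h => absurd (Finset.mem_univ _) h), one_smul, sub_self, zero_mul, zero_smul, zero_sub,
    neg_eq_zero] at h4
  rw [h2 a, Finset.smul_sum, ← h4]
  exact Finset.sum_congr rfl fun g _ => by rw [smul_smul, mul_comm]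

open scoped Classical in
/-- A delta function with multiplier `r` makes `A` étale over the base after inverting `r`. -/
theorem etale_away [IsNoetherianRing R] [Module.Finite R A] [Algebra.IsInvariant R A G] [FaithfulSMul R A] {r : R}
    (hδ : Pi.single (1 : G) (algebraMap R A r) ∈ orbitSpan (H := G) (⊤ : Subalgebra R A)) :
    Algebra.Etale R (Localization.Away (algebraMap R A r)) := by
  let := Fintype.ofFinite G
  let A' := Localization.Away (algebraMap R A r)
  let ρ := algebraMap R A r
  have hu : IsUnit (algebraMap R A' r) := by
    rw [IsScalarTower.algebraMap_apply R A A']; exact IsLocalization.Away.algebraMap_isUnit ρ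
  haveI : Algebra.FormallyUnramified R A' := by
    constructor
    let D := KaehlerDifferential.D R A'
    have h0 : ∀ a : A, D (algebraMap A A' a) = 0 := fun a => by
      have := sq_smul_derivation (G := G) hδ (D.compAlgebraMap A) a
      have h : algebraMap A A' ρ • algebraMap A A' ρ • D (algebraMap A A' a) = 0 := by
        rw [algebraMap_smul A' ρ, algebraMap_smul A' ρ]; simpa only [Derivation.compAlgebraMap_apply] using this
      have hu' := IsLocalization.Away.algebraMap_isUnit (S := A') ρ
      rwa [hu'.smul_eq_zero, hu'.smul_eq_zero] at h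
    have h1 : ∀ z : A', D z = 0 := fun z => by
      obtain ⟨b, t, rfl⟩ := IsLocalization.exists_mk'_eq (Submonoid.powers ρ) z
      have h := congrArg D (IsLocalization.mk'_spec A' b t)
      rw [D.leibniz, h0, h0, smul_zero, zero_add] at h
      exact (IsLocalization.map_units A' t).smul_eq_zero.mp h
    refine subsingleton_of_forall_eq 0 fun ω => ?_
    have hω : ω ∈ Submodule.span A' (Set.range D) := by
      rw [KaehlerDifferential.span_range_derivation]; trivial
    refine (Submodule.mem_bot A').mp (Submodule.span_le.mpr ?_ hω)
    rintro _ ⟨z, rfl⟩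
    exact h1 z
  haveI : Module.Flat R A' := by
    obtain ⟨l, x, y, hxy⟩ := exists_dual (G := G) (r := r) (fun {_} => by convert hδ)
    have hinv : ∀ z : A, ∃ t : R, algebraMap R A t = ∑ g : G, g • z := fun z =>
      Algebra.IsInvariant.isInvariant (A := R) (G := G) _ fun h => by
        rw [Finset.smul_sum]
        exact Fintype.sum_equiv (Equiv.mulLeft h) _ _ fun g => (mul_smul h g _).symm
    choose t ht using hinv
    have hinj := FaithfulSMul.algebraMap_injective R A
    let tr : Fin l → A →ₗ[R] R := fun k =>
      { toFun := fun a => t (a * x k)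
        map_add' := fun a b => hinj (by
          simp only [map_add, ht, add_mul, smul_add, Finset.sum_add_distrib])
        map_smul' := fun c a => hinj (by
          simp only [RingHom.id_apply, smul_eq_mul, map_mul, ht, Finset.mul_sum, Algebra.smul_def, mul_assoc,
            smul_mul', smul_algebraMap]) }
    let Rr := Localization.Away r
    let φ : Rr →ₐ[R] A' := IsLocalization.liftAlgHom (M := Submonoid.powers r) (f := Algebra.ofId R A')
      (fun ⟨s, n, e⟩ => by
        subst e
        show IsUnit (algebraMap R A' (r ^ n))
        rw [map_pow]; exact hu.pow n)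
    haveI : IsLocalization (Algebra.algebraMapSubmonoid A (Submonoid.powers r)) A' := by
      rw [Algebra.algebraMapSubmonoid_powers]; infer_instance
    let lA : A →ₗ[R] A' := (IsScalarTower.toAlgHom R A A').toLinearMap
    haveI : IsLocalizedModule (Submonoid.powers r) lA :=
      isLocalizedModule_iff_isLocalization.mpr inferInstance
    have hun : ∀ s : Submonoid.powers r, IsUnit (algebraMap R (Module.End R (Fin l → Rr)) s) := fun s => by
      rw [Module.End.isUnit_iff]
      have hs := IsLocalization.map_units Rr s
      constructor
      · intro a b h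
        funext k
        have := congrFun h k
        simp only [Module.algebraMap_end_apply, Pi.smul_apply, Algebra.smul_def] at this
        exact hs.mul_left_cancel this
      · intro b
        refine ⟨fun k => ↑hs.unit⁻¹ * b k, funext fun k => ?_⟩
        simp only [Module.algebraMap_end_apply, Pi.smul_apply, Algebra.smul_def]
        rw [← mul_assoc, hs.mul_val_inv, one_mul]
    let ι : A' →ₗ[R] (Fin l → Rr) := IsLocalizedModule.lift (Submonoid.powers r) lA
      (LinearMap.pi fun k => (Algebra.linearMap R Rr).comp (tr k)) hun
    let π : (Fin l → Rr) →ₗ[R] A' :=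
      ∑ k, (LinearMap.mulRight R (algebraMap A A' (y k))).comp
        (φ.toLinearMap.comp (LinearMap.proj k))
    let u : A' := ↑hu.unit⁻¹
    refine Module.Flat.of_retract ι ((LinearMap.mulLeft R u).comp π) ?_
    refine IsLocalizedModule.ext (Submonoid.powers r) lA (IsLocalizedModule.map_units lA) ?_
    ext a
    simp only [LinearMap.comp_apply, LinearMap.id_comp, LinearMap.id_apply, ι,
      IsLocalizedModule.lift_apply]
    simp only [π, lA, AlgHom.toLinearMap_apply, IsScalarTower.coe_toAlgHom', LinearMap.mulLeft_apply,
      LinearMap.sum_apply, LinearMap.comp_apply, LinearMap.mulRight_apply, LinearMap.proj_apply,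
      LinearMap.pi_apply, Algebra.linearMap_apply, AlgHom.commutes]
    have hk : ∀ k, algebraMap R A' (tr k a) * algebraMap A A' (y k) =
        algebraMap A A' ((∑ g : G, g • (a * x k)) * y k) := fun k => by
      show algebraMap R A' (t (a * x k)) * _ = _
      rw [IsScalarTower.algebraMap_apply R A A', ht, map_mul]
    rw [Finset.sum_congr rfl fun k _ => hk k, ← map_sum, ← hxy, Algebra.smul_def, map_mul,
      ← IsScalarTower.algebraMap_apply, ← mul_assoc, show u * algebraMap R A' r = 1 from IsUnit.val_inv_mul hu, one_mul]
  haveI : Algebra.FiniteType A A' := @Algebra.FiniteType.of_finitePresentation _ _ _ _ _ (IsLocalization.Away.finitePresentation ρ)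
  haveI : Algebra.FiniteType R A' := Algebra.FiniteType.trans (S := A) inferInstance inferInstance
  haveI : Algebra.FinitePresentation R A' := Algebra.FinitePresentation.of_finiteType.mp inferInstance
  exact Algebra.Etale.of_formallyUnramified_of_flat

end Groth.Agent.H1Wild
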