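import Groth.Agent.H1Wild.Etale
import Groth.Agent.WQ7.Purity
import Groth.Agent.Pi1Ext.RegPurity
import Groth.Agent.RegLoc6.Normal
import Mathlib

/-!
Purity of the branch locus for finite group actions on normal domains over regular local rings.
-/

set_option maxHeartbeats 1000000

namespace Groth.Agent.H1Wild

open Groth.Agent Groth.Agent.WQ7 Groth.Agent.Pi1Ext.RegPurity IsLocalRing

universe u w

theorem inertia_eq_bot_aux (G : Type w) [Group G] [Finite G] :
    ∀ (n : ℕ) (A : Type u) [CommRing A] [IsRegularLocalRing A]
    (B : Type u) [CommRing B] [IsDomain B] [IsIntegrallyClosed B] [Algebra A B] [Module.Finite A B]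
    [MulSemiringAction G B] [SMulCommClass G A B] [FaithfulSMul G B] [FaithfulSMul A B]
    [Algebra.IsInvariant A B G],
    ringKrullDim A ≤ n →
    (∀ Q : Ideal B, Q.IsPrime → (Q.comap (algebraMap A B)).height ≤ 1 → Q.inertia G = ⊥) →
    ∀ Q : Ideal B, Q.IsPrime → Q.inertia G = ⊥ := by
  intro n
  induction n using Nat.strong_induction_on with
  | _ n ih =>
  intro A _ _ B _ _ _ _ _ _ _ _ _ _ hn h1 Q hQ
  classical
  have := RegLoc6.isDomain_of_isRegularLocalRing A
  have : IsIntegrallyClosed A := RegLoc6.isIntegrallyClosed_of_isRegularLocalRing A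
  have : IsNoetherianRing B := isNoetherian_of_tower A (isNoetherian_of_isNoetherianRing_of_finite A B)
  have : Algebra.IsIntegral A B := Algebra.IsIntegral.of_finite A B
  let := Fintype.ofFinite G
  obtain ⟨d, hd⟩ : ∃ d : ℕ, ringKrullDim A = d := ⟨_, ((isRegularLocalRing_iff A).1 inferInstance).symm⟩
  have hdn : d ≤ n := by rw [hd] at hn; exact_mod_cast hn
  -- the non-maximal primes, by induction
  have hlow : ∀ q : Ideal A, q.IsPrime → q ≠ maximalIdeal A →
      ∀ P : Ideal B, P.IsPrime → P.comap (algebraMap A B) = q → P.inertia G = ⊥ := by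
    intro q hq hqm P hP hPq
    let A' := Localization.AtPrime q
    let M := Algebra.algebraMapSubmonoid B q.primeCompl
    let B' := Localization M
    have hM0 : M ≤ nonZeroDivisors B := by
      rintro _ ⟨a, ha, rfl⟩
      exact mem_nonZeroDivisors_of_ne_zero fun e => ha (by
        rw [show a = 0 from FaithfulSMul.algebraMap_injective A B (e.trans (map_zero _).symm)]
        exact q.zero_mem)
    have hM : ∀ g : G, ∀ m ∈ M, g • m = m := fun g m ⟨a, _, e⟩ => e ▸ smul_algebraMap g a
    let : MulSemiringAction G B' := MulSemiringAction.compHom B' (locHom M hM B')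
    have hact : ∀ (g : G) (b : B), g • algebraMap B B' b = algebraMap B B' (g • b) := fun g b =>
      locHom_algebraMap M hM B' g b
    let : Algebra A' B' := localizationAlgebra q.primeCompl B
    have : IsScalarTower A A' B' := IsScalarTower.of_algebraMap_eq fun a => by
      rw [IsScalarTower.algebraMap_apply A B B']
      exact (IsLocalization.map_eq _ a).symm
    have := RegLoc6.isRegularLocalRing_localization A q
    have : IsDomain B' := IsLocalization.isDomain_localization hM0
    have : IsIntegrallyClosed B' := isIntegrallyClosed_of_isLocalization B' M hM0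
    have : Module.Finite A' B' := Module.Finite.of_isLocalization A B q.primeCompl
    have hinjB : Function.Injective (algebraMap B B') := IsLocalization.injective B' hM0
    have hA' : ∀ (g : G) (a : A'), g • algebraMap A' B' a = algebraMap A' B' a := fun g a => by
      obtain ⟨x, t, rfl⟩ := IsLocalization.exists_mk'_eq q.primeCompl a
      have hu := IsLocalization.map_units A' t
      refine (hu.map (algebraMap A' B')).mul_right_cancel ?_
      have ht : g • algebraMap A' B' (algebraMap A A' t) = algebraMap A' B' (algebraMap A A' t) := by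
        rw [← IsScalarTower.algebraMap_apply, IsScalarTower.algebraMap_apply A B B', hact, smul_algebraMap]
      conv_lhs => rw [← ht, ← smul_mul', ← map_mul, IsLocalization.mk'_spec,
        ← IsScalarTower.algebraMap_apply, IsScalarTower.algebraMap_apply A B B', hact, smul_algebraMap]
      rw [← map_mul, IsLocalization.mk'_spec, ← IsScalarTower.algebraMap_apply A B B',
        ← IsScalarTower.algebraMap_apply A A' B']
    have : SMulCommClass G A' B' := ⟨fun g a b => by
      rw [Algebra.smul_def, Algebra.smul_def, smul_mul', hA']⟩
    have : IsLocalization (Submonoid.map (algebraMap A B) q.primeCompl) B' :=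
      (inferInstance : IsLocalization M B')
    have : FaithfulSMul A' B' := (faithfulSMul_iff_algebraMap_injective A' B').mpr
      (IsLocalization.map_injective_of_injective q.primeCompl A' B' (FaithfulSMul.algebraMap_injective A B))
    have : FaithfulSMul G B' := ⟨fun {g g'} e => FaithfulSMul.eq_of_smul_eq_smul (α := B) fun b =>
      hinjB (by rw [← hact, ← hact, e])⟩
    have : Algebra.IsInvariant A' B' G := ⟨fun z hz => by
      obtain ⟨b, ⟨_, t, ht, rfl⟩, rfl⟩ := IsLocalization.exists_mk'_eq M z
      have hb : ∀ g : G, g • b = b := fun g => hinjB (by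
        rw [← hact, ← IsLocalization.mk'_spec B' b (⟨_, t, ht, rfl⟩ : M), smul_mul', hz g, hact,
          smul_algebraMap])
      obtain ⟨a, rfl⟩ := Algebra.IsInvariant.isInvariant (A := A) b hb
      refine ⟨IsLocalization.mk' A' a ⟨t, ht⟩, ?_⟩
      rw [IsLocalization.eq_mk'_iff_mul_eq]
      show _ * algebraMap B B' (algebraMap A B t) = algebraMap B B' (algebraMap A B a)
      rw [← IsScalarTower.algebraMap_apply, ← IsScalarTower.algebraMap_apply,
        IsScalarTower.algebraMap_apply A A' B', IsScalarTower.algebraMap_apply A A' B', ← map_mul,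
        IsLocalization.mk'_spec]⟩
    have hdimq : ringKrullDim A' = q.height := IsLocalization.AtPrime.ringKrullDim_eq_height q A'
    have hlt : q.height < d := by
      have h2 := Ideal.height_strict_mono_of_isPrime
        (lt_of_le_of_ne (le_maximalIdeal hq.ne_top) hqm)
      have h3 := maximalIdeal_height_eq_ringKrullDim (R := A)
      rw [hd] at h3
      exact lt_of_lt_of_le h2 (by exact_mod_cast h3.le)
    obtain ⟨m, hm⟩ := ENat.ne_top_iff_exists.mp hlt.ne_top
    have hm' : m < d := by rw [← hm] at hlt; exact_mod_cast hlt
    have hdisj : Disjoint (M : Set B) (P : Set B) := Set.disjoint_left.mpr fun x ⟨a, ha, e⟩ hx =>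
      ha (hPq ▸ (show algebraMap A B a ∈ P from e.symm ▸ hx))
    have hP' := IsLocalization.isPrime_of_isPrime_disjoint M B' P hP hdisj
    have hres := ih m (lt_of_lt_of_le hm' hdn) A' B'
      (by rw [hdimq, ← hm]; exact_mod_cast le_rfl) (fun Q' hQ' hh => by
        rw [Subgroup.eq_bot_iff_forall]
        intro g hg
        refine (Subgroup.eq_bot_iff_forall _).mp (h1 (Q'.comap (algebraMap B B')) inferInstance ?_) g
          fun b => ?_
        · have e : (Q'.comap (algebraMap B B')).comap (algebraMap A B) =
              (Q'.comap (algebraMap A' B')).comap (algebraMap A A') := by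
            rw [Ideal.comap_comap, Ideal.comap_comap, ← IsScalarTower.algebraMap_eq,
              ← IsScalarTower.algebraMap_eq]
          rw [e]
          exact (IsLocalization.height_under q.primeCompl (Q'.comap (algebraMap A' B'))).le.trans hh
        · show algebraMap B B' (g • b - b) ∈ Q'
          rw [map_sub, ← hact]; exact hg _) _ hP'
    rw [Subgroup.eq_bot_iff_forall] at hres ⊢
    intro g hg
    refine hres g fun z => ?_
    obtain ⟨b, t, rfl⟩ := IsLocalization.exists_mk'_eq M z
    have ht : g • algebraMap B B' t = algebraMap B B' t := by rw [hact, hM g t t.2]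
    have : (g • IsLocalization.mk' B' b t - IsLocalization.mk' B' b t) * algebraMap B B' t =
        algebraMap B B' (g • b - b) := by
      rw [sub_mul, IsLocalization.mk'_spec, map_sub, ← hact]
      congr 1
      rw [← IsLocalization.mk'_spec B' b t, smul_mul', ht]
    exact (Ideal.mul_unit_mem_iff_mem _ (IsLocalization.map_units B' t)).mp
      (this ▸ Ideal.mem_map_of_mem _ (hg b))
  -- the maximal ideal
  by_cases hQm : Q.comap (algebraMap A B) = maximalIdeal A
  swap
  · exact hlow _ inferInstance hQm Q hQ rfl
  rcases Nat.lt_or_ge d 2 with hd2 | hd2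
  · refine h1 Q hQ ?_
    rw [hQm]
    have h3 := maximalIdeal_height_eq_ringKrullDim (R := A)
    rw [hd] at h3
    have h4 : (maximalIdeal A).height = (d : ℕ∞) := by exact_mod_cast h3
    rw [h4]
    exact_mod_cast Nat.lt_succ_iff.mp hd2
  have hEt : EtOff A B := fun g hg => by
    have : Algebra.FinitePresentation A B := Algebra.FinitePresentation.of_finiteType.mp inferInstance
    unfold EtAway
    rw [← Algebra.basicOpen_subset_etaleLocus_iff_etale]
    intro P hP
    let q := P.asIdeal.comap (algebraMap A B)
    have hgq : g ∉ q := hP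
    have hqm : q ≠ maximalIdeal A := fun e => hgq (e ▸ hg)
    obtain ⟨r, hr, hδ⟩ := exists_delta (G := G) q fun P hP hPq => hlow q inferInstance hqm P hP hPq
    have := etale_away (G := G) (r := r) (by convert hδ)
    exact Algebra.basicOpen_subset_etaleLocus_iff_etale.2 this (show algebraMap A B r ∉ P.asIdeal from hr)
  have : Module.Free A B := by
    obtain ⟨B', _, _, f, hfin, het, hiso⟩ := exists_finite_etale_of_etOff A (by rw [hd]; exact_mod_cast hd2) B hEt
    haveI := hfin
    haveI := het
    have hmne : maximalIdeal A ≠ ⊥ := fun e => by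
      have := ringKrullDim_eq_zero_of_isField (isField_iff_maximalIdeal_eq.mpr e)
      rw [hd] at this
      have : d = 0 := by exact_mod_cast this
      omega
    obtain ⟨g, hg, hg0⟩ := Submodule.exists_mem_ne_zero_of_ne_bot hmne
    have hinj := FaithfulSMul.algebraMap_injective A B
    have hginj : ∀ (n : ℕ) (c : B), g ^ n • c = 0 → c = 0 := fun n c h => by
      rw [Algebra.smul_def, mul_eq_zero] at h
      exact h.resolve_left fun e => pow_ne_zero n hg0 (hinj (e.trans (map_zero _).symm))
    have hf : Function.Injective f := (injective_iff_map_eq_zero f).mpr fun c hc => by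
      obtain ⟨n, hn⟩ := (hiso g hg).2 c hc
      exact hginj n c hn
    have hs : Function.Surjective f := fun b => by
      obtain ⟨n, c, hc⟩ := (hiso g hg).1 b
      let K := FractionRing B
      obtain ⟨P, hP, hPb⟩ := (Algebra.IsIntegral.isIntegral (R := A) b)
      have e1 : algebraMap A B' (g ^ n) * b = f c := by rw [← Algebra.smul_def]; exact hc
      have e2 : Polynomial.aeval c (Polynomial.scaleRoots P (g ^ n)) = 0 := hf (by
        rw [map_zero, ← Polynomial.aeval_algHom_apply, ← e1]
        exact Polynomial.scaleRoots_aeval_eq_zero hPb)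
      have hden : algebraMap B K (algebraMap A B (g ^ n)) ≠ 0 := fun e => pow_ne_zero n hg0
        (hinj ((IsFractionRing.injective B K (e.trans (map_zero _).symm)).trans (map_zero _).symm))
      let z : K := algebraMap B K c / algebraMap B K (algebraMap A B (g ^ n))
      have hz : IsIntegral B z := by
        refine IsIntegral.tower_top (R := A) ⟨P, hP, ?_⟩
        have e3 : Polynomial.eval₂ (algebraMap A K) (algebraMap B K c) (Polynomial.scaleRoots P (g ^ n)) = 0 := by
          rw [← Polynomial.aeval_def, Polynomial.aeval_algebraMap_apply, e2, map_zero]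
        rw [show algebraMap B K c = algebraMap A K (g ^ n) * z from by
          rw [IsScalarTower.algebraMap_apply A B K, mul_div_cancel₀ _ hden],
          Polynomial.scaleRoots_eval₂_mul] at e3
        refine (mul_eq_zero.mp e3).resolve_left (pow_ne_zero _ ?_)
        rwa [IsScalarTower.algebraMap_apply A B K]
      obtain ⟨a, ha⟩ := IsIntegrallyClosed.isIntegral_iff.mp hz
      have ha' : algebraMap A B (g ^ n) * a = c := IsFractionRing.injective B K (by
        rw [map_mul, ha, mul_div_cancel₀ _ hden])
      refine ⟨a, ?_⟩
      rw [← ha', map_mul, f.commutes] at e1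
      have htf : ∀ x : B', algebraMap A B' (g ^ n) * x = 0 → x = 0 := fun x hx => by
        haveI : Module.Free A B' := Module.free_of_flat_of_isLocalRing
        refine (smul_eq_zero.mp (show (g ^ n) • x = 0 by rw [Algebra.smul_def]; exact hx)).resolve_left
          (pow_ne_zero n hg0)
      exact (sub_eq_zero.mp (htf _ (by rw [mul_sub, e1, sub_self]))).symm
    haveI : Module.Free A B' := Module.free_of_flat_of_isLocalRing
    exact Module.Free.of_equiv (AlgEquiv.ofBijective f ⟨hf, hs⟩).symm.toLinearEquiv
  exact inertia_eq_bot_of_delta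
    (delta_of_free (fun a ha => Algebra.IsInvariant.isInvariant (A := A) a ha) h1) Q hQ.ne_top

end Groth.Agent.H1Wild
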